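import Cfsg.Agent.Lib.OrthMult.Two.Step
import Cfsg.Agent.Lib.OrthMult.Base
import Cfsg.Agent.Lib.Linear.OrthCenter
import Cfsg.Agent.Lib.Chev.StStem

/-!
# The multiplier of `PΩ` in characteristic two
-/

set_option autoImplicit false
set_option linter.unusedSectionVars false

namespace Cfsg.Lib.OrthMult.Two

open Cfsg.Lib.Linear.Orth

universe u

variable {ι : Type} [Fintype ι] [DecidableEq ι] {F : Type u} [Field F] [Fintype F]
  {Q : (ι → F) → F} {B : LinearMap.BilinForm F (ι → F)}

/-- The centre of `Ω` is trivial in characteristic two. -/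
theorem omega_center_bot (C : Space Q B) (h2 : (2 : F) = 0) (h7 : 7 ≤ Fintype.card ι) :
    Subgroup.center ↥(Cfsg.Omega F Q) = ⊥ := by
  refine (Subgroup.eq_bot_iff_forall _).2 fun z hz => ?_
  have h1 : ((z : ↥(isometryGroup F Q)) : GL ι F).val = 1 := by
    rcases omega_center_pm C h7 hz with h | h
    · exact h
    · rw [h]
      ext i j
      rw [Matrix.neg_apply]
      linear_combination (-(1 : Matrix ι ι F) i j) * h2
  exact Subtype.ext (Subtype.ext (Units.ext h1))

/-- The multiplier is trivial in characteristic two. -/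
theorem multiplier_trivial (C : Space Q B) (h2 : (2 : F) = 0) {m : ℕ}
    (hn : Fintype.card ι = 2 * m + 2) (hm : 3 ≤ m) (hq : 4 ≤ m ∨ 4 ≤ Fintype.card F) :
    Cfsg.HasCyclicSchurMultiplier (Cfsg.POmega F Q) 1 := by
  let e : Cfsg.POmega F Q ≃* ↥(Root Q B ⊤) :=
    ((QuotientGroup.quotientMulEquivOfEq (omega_center_bot C h2 (by omega))).trans
      QuotientGroup.quotientBot).trans (omegaEquiv C (by omega))
  refine Cfsg.Lib.Chev.trivial_multiplier fun Γ _ _ σ hσ => ?_
  have hk : (e.toMonoidHom.comp σ).ker = σ.ker := by ext x; simp [MonoidHom.mem_ker]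
  rw [← hk]
  exact stem_trivial_root (e.toMonoidHom.comp σ) C h2 hn hm hq
    ⟨e.surjective.comp hσ.1, hk.le.trans hσ.2.1, hk.le.trans hσ.2.2⟩

end Cfsg.Lib.OrthMult.Two
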