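import Cfsg.Agent.Lib.SpMult.Main

/-!
# The fixer of a vector in a symplectic group in characteristic two is perfect
-/

set_option autoImplicit false
set_option linter.unusedSectionVars false

namespace Cfsg.Lib.OrthMult.Two

open Module
open Cfsg.Lib.Linear.Symp
open Cfsg.Lib.SpMult (Gp mem_Gp tvG_mem_Gp exists_Gp_equiv restrict_perp perfect_iso tvG_smul skew
  exists_pair exists_pair_of_lt)
open scoped commutatorElement

universe u

variable {F V : Type u} [Field F] [Fintype F] [AddCommGroup V] [Module F V] [FiniteDimensional F V]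
  {B : LinearMap.BilinForm F V}

/-- The isometries fixing a vector. -/
def Fv (B : LinearMap.BilinForm F V) (a : V) : Subgroup (iso B) :=
  (fixer B (Submodule.span F {a})).subgroupOf (iso B)

theorem mem_Fv {a : V} {g : iso B} : g ∈ Fv B a ↔ (g : V ≃ₗ[F] V) a = a := by
  rw [Fv, Subgroup.mem_subgroupOf, mem_fixer]
  refine ⟨fun h => h.2 a (Submodule.mem_span_singleton_self a), fun h => ⟨g.2, fun x hx => ?_⟩⟩
  obtain ⟨c, rfl⟩ := Submodule.mem_span_singleton.1 hx
  rw [map_smul, h]

theorem Fv_perfect (h2 : (2 : F) = 0) (hB : B.Nondegenerate) (hA : B.IsAlt) {m : ℕ}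
    (hm : finrank F V = 2 * m) (hm3 : 3 ≤ m) (hq : 4 ≤ m ∨ 3 ≤ Fintype.card F) {a : V} (ha : a ≠ 0) :
    ⁅Fv B a, Fv B a⁆ = Fv B a := by
  have hmul : ⁅Fv B a, Fv B a⁆ ≤ Fv B a := Subgroup.commutator_le.2 fun x hx y hy => by
    rw [commutatorElement_def]
    exact mul_mem (mul_mem (mul_mem hx hy) (inv_mem hx)) (inv_mem hy)
  have hsymm : ∀ x y : V, B x y = B y x := fun x y => by
    rw [skew hA y x]; linear_combination (-B y x) * h2
  have hGp : ∀ e f : V, B e f = 1 → ⁅Gp B e f, Gp B e f⁆ = Gp B e f := fun e f hef => by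
    obtain ⟨r, -⟩ := exists_Gp_equiv hB hA hef
    obtain ⟨hWA, hWB, hWd⟩ := restrict_perp hB hA hef
    have hp : commutator (Gp B e f) = ⊤ := by
      have := congrArg (Subgroup.map r.symm.toMonoidHom) (perfect_iso hWB hWA (m := m - 1) (by omega)
        (by omega) (fun e => by rcases hq with h | h <;> omega))
      rw [commutator_def, Subgroup.map_commutator, Subgroup.map_top_of_surjective _ r.symm.surjective,
        ← commutator_def] at this
      exact this
    have h3 := congrArg (Subgroup.map (Gp B e f).subtype) hp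
    rwa [commutator_def, Subgroup.map_commutator, ← MonoidHom.range_eq_map, Subgroup.range_subtype] at h3
  have good : ∀ v, B a v = 0 → v ∉ Submodule.span F {a} → ∀ c, tvG hA v c ∈ ⁅Fv B a, Fv B a⁆ := by
    intro v hav hv c
    obtain ⟨b, hab, hvb⟩ : ∃ b, B a b = 1 ∧ B v b = 0 := by
      obtain ⟨x, hx, hax⟩ : ∃ x, B v x = 0 ∧ B a x ≠ 0 := by
        by_contra hc
        push Not at hc
        have hmem : a ∈ B.orthogonal (B.orthogonal (Submodule.span F {v})) := fun x hx =>
          hA.isRefl _ _ (hc x (hx v (Submodule.mem_span_singleton_self v)))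
        rw [LinearMap.BilinForm.orthogonal_orthogonal hB hA.isRefl, Submodule.mem_span_singleton] at hmem
        obtain ⟨k, rfl⟩ := hmem
        have hk : k ≠ 0 := fun hk => ha (by simp [hk])
        exact hv (Submodule.mem_span_singleton.2 ⟨k⁻¹, by rw [smul_smul, inv_mul_cancel₀ hk, one_smul]⟩)
      exact ⟨(B a x)⁻¹ • x, by simp [hax], by simp [hx]⟩
    have hle : Gp B a b ≤ Fv B a := fun g hg => mem_Fv.2 (mem_Gp.1 hg).1
    have hmem := tvG_mem_Gp (e := a) (f := b) hA hav (by rw [hsymm]; exact hvb) c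
    rw [← hGp a b hab] at hmem
    exact Subgroup.commutator_mono hle hle hmem
  refine le_antisymm hmul fun g hg => ?_
  have hg' : (g : V ≃ₗ[F] V) ∈ T hA (Submodule.span F {a}) := by
    rw [← Cfsg.Lib.SpMult.fixer_eq_T hB hA]; exact Subgroup.mem_subgroupOf.1 hg
  suffices H : T hA (Submodule.span F {a}) ≤ ⁅Fv B a, Fv B a⁆.map (iso B).subtype by
    obtain ⟨y, hy, hyg⟩ := H hg'
    exact (Subtype.ext hyg : y = g) ▸ hy
  rw [T, Subgroup.closure_le]
  rintro _ ⟨v, hv, c, rfl⟩
  refine ⟨tvG hA v c, ?_, rfl⟩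
  have hav : B a v = 0 := hv a (Submodule.mem_span_singleton_self a)
  by_cases hspan : v ∈ Submodule.span F {a}
  swap
  · exact good v hav hspan c
  obtain ⟨k, rfl⟩ := Submodule.mem_span_singleton.1 hspan
  rw [tvG_smul]
  obtain ⟨b, hab⟩ : ∃ b, B a b = 1 := by
    obtain ⟨x, hx⟩ : ∃ x, B a x ≠ 0 := by
      by_contra hc
      push Not at hc
      exact ha (hB.1 a hc)
    exact ⟨(B a x)⁻¹ • x, by simp [hx]⟩
  obtain ⟨hWA, hWB, hWd⟩ := restrict_perp hB hA hab
  haveI : Nontrivial (Cfsg.Lib.SpMult.perpPair B a b) :=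
    Module.nontrivial_of_finrank_pos (R := F) (by omega)
  obtain ⟨u, hu⟩ := exists_ne (0 : Cfsg.Lib.SpMult.perpPair B a b)
  obtain ⟨v, hv', huv⟩ : ∃ v : Cfsg.Lib.SpMult.perpPair B a b, B (u : V) (v : V) = 0 ∧
      v ∉ Submodule.span F {u} := by
    have h1 := LinearMap.finrank_range_add_finrank_ker ((B.restrict (Cfsg.Lib.SpMult.perpPair B a b)) u)
    have h3 := Submodule.finrank_le (LinearMap.range ((B.restrict (Cfsg.Lib.SpMult.perpPair B a b)) u))
    rw [Module.finrank_self] at h3
    obtain ⟨v, hv, hv'⟩ : ∃ v ∈ LinearMap.ker ((B.restrict (Cfsg.Lib.SpMult.perpPair B a b)) u),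
        v ∉ Submodule.span F {u} := by
      by_contra! hc
      have := (Submodule.finrank_mono (show _ ≤ Submodule.span F {u} from hc)).trans_eq
        (finrank_span_singleton hu)
      omega
    exact ⟨v, by simpa using hv, hv'⟩
  have hperp : ∀ x : Cfsg.Lib.SpMult.perpPair B a b, B a (x : V) = 0 ∧ B b (x : V) = 0 := fun x =>
    Cfsg.Lib.SpMult.mem_perpPair.1 x.2
  have hnot : ∀ x : Cfsg.Lib.SpMult.perpPair B a b, x ≠ 0 → ∀ d : F,
      (x : V) + d • a ∉ Submodule.span F {a} := fun x hx d hm => by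
    obtain ⟨s, hs⟩ := Submodule.mem_span_singleton.1 hm
    refine hx (Subtype.ext ?_)
    show (x : V) = 0
    have e : (x : V) = (s - d) • a := by rw [sub_smul, hs]; abel
    have h0 := (hperp x).2
    rw [e, map_smul, hsymm b a, hab, smul_eq_mul, mul_one] at h0
    rw [e, h0, zero_smul]
  have hv0 : v ≠ 0 := fun h => huv (by rw [h]; exact Submodule.zero_mem _)
  have huv0 : u + v ≠ 0 := fun h => huv (by
    rw [show v = -u from eq_neg_of_add_eq_zero_right h]
    exact Submodule.neg_mem _ (Submodule.mem_span_singleton_self u))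
  set d := k ^ 2 * c with hd
  have hmem : ∀ x : Cfsg.Lib.SpMult.perpPair B a b, x ≠ 0 →
      tvG hA ((x : V) + (1 : F) • a) d * tvG hA (x : V) d ∈ ⁅Fv B a, Fv B a⁆ := fun x hx =>
    mul_mem (good _ (by simp [(hperp x).1, hA.self_eq_zero]) (hnot x hx 1) d)
      (good _ (hperp x).1 (by simpa using hnot x hx 0) d)
  have hprod : tvG hA a d = (tvG hA ((u : V) + (1 : F) • a) d * tvG hA (u : V) d) *
      (tvG hA ((v : V) + (1 : F) • a) d * tvG hA (v : V) d) *
      (tvG hA (((u + v : Cfsg.Lib.SpMult.perpPair B a b) : V) + (1 : F) • a) d *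
        tvG hA ((u + v : Cfsg.Lib.SpMult.perpPair B a b) : V) d) := by
    refine Subtype.ext (LinearEquiv.ext fun x => ?_)
    have e1 : B (u : V) a = 0 := by rw [hsymm]; exact (hperp u).1
    have e2 : B (v : V) a = 0 := by rw [hsymm]; exact (hperp v).1
    have e3 : B (v : V) (u : V) = 0 := by rw [hsymm]; exact hv'
    simp only [tvG, Subgroup.coe_mul, LinearEquiv.mul_apply, tv_apply, Submodule.coe_add, one_smul,
      map_add, map_smul, LinearMap.add_apply, LinearMap.smul_apply, smul_eq_mul, hA.self_eq_zero,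
      e1, e2, e3, hv', (hperp u).1, (hperp v).1, mul_zero, add_zero, zero_add]
    match_scalars
    · ring
    all_goals (
      have h3 : (3 : F) = 1 := by linear_combination h2
      have h4 : (4 : F) = 0 := by linear_combination 2 * h2
      have h5 : (5 : F) = 1 := by linear_combination 2 * h2
      have h6 : (6 : F) = 0 := by linear_combination 3 * h2
      ring_nf
      simp [h2, h3, h4, h5, h6])
  rw [hprod]
  exact mul_mem (mul_mem (hmem u hu) (hmem v hv0)) (hmem (u + v) huv0)

end Cfsg.Lib.OrthMult.Two
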