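import Cfsg.Agent.Lib.OrthMult.Sub
import Cfsg.Agent.Lib.OrthMult.Two.Sp
import Cfsg.Agent.Lib.Linear.OrthSpinor

/-!
# The stabiliser of a non-singular vector in characteristic two

It is the symplectic group of the quotient of the perpendicular by the vector.
-/

set_option autoImplicit false
set_option linter.unusedSectionVars false

namespace Cfsg.Lib.OrthMult.Two

open Module
open Cfsg.Lib.Linear.Orth
open scoped Matrix commutatorElement

universe u

variable {ι : Type} [Fintype ι] [DecidableEq ι] {F : Type u} [Field F] [Fintype F]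
  {Q : (ι → F) → F} {B : LinearMap.BilinForm F (ι → F)}

/-- The elements of `Ω` fixing a vector. -/
noncomputable def G1 (Q : (ι → F) → F) (B : LinearMap.BilinForm F (ι → F)) (a : ι → F) :
    Subgroup (GL ι F) where
  carrier := {g | g ∈ Root Q B ⊤ ∧ g.val *ᵥ a = a}
  one_mem' := ⟨one_mem _, by simp⟩
  mul_mem' := fun {g h} hg hh => ⟨mul_mem hg.1 hh.1, by rw [mul_act, hh.2, hg.2]⟩
  inv_mem' := fun {g} hg => ⟨inv_mem hg.1, by conv_lhs => rw [← hg.2, inv_act]⟩

theorem mem_G1 {a : ι → F} {g : GL ι F} : g ∈ G1 Q B a ↔ g ∈ Root Q B ⊤ ∧ g.val *ᵥ a = a := Iff.rfl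

/-- The perpendicular of a vector. -/
abbrev ker1 (B : LinearMap.BilinForm F (ι → F)) (a : ι → F) : Submodule F (ι → F) := LinearMap.ker (B a)

/-- The line of the vector inside its perpendicular. -/
abbrev line (B : LinearMap.BilinForm F (ι → F)) (a : ι → F) : Submodule F (ker1 B a) :=
  (Submodule.span F {a}).comap (ker1 B a).subtype

/-- The symplectic space of the vector. -/
abbrev Wq (B : LinearMap.BilinForm F (ι → F)) (a : ι → F) : Type u := ker1 B a ⧸ line B a

/-- The class of a perpendicular vector. -/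
abbrev cls (B : LinearMap.BilinForm F (ι → F)) (a : ι → F) : ker1 B a →ₗ[F] Wq B a := (line B a).mkQ

theorem perp_line (C : Space Q B) {a : ι → F} (k : ker1 B a) {x : ι → F}
    (hx : x ∈ Submodule.span F {a}) : B x k = 0 := by
  obtain ⟨t, rfl⟩ := Submodule.mem_span_singleton.1 hx
  rw [map_smul, LinearMap.smul_apply, LinearMap.mem_ker.1 k.2, smul_zero]

/-- The form of the symplectic space. -/
noncomputable def Bq (C : Space Q B) (a : ι → F) : LinearMap.BilinForm F (Wq B a) :=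
  ((line B a).liftQ (((line B a).liftQ (B.compl₁₂ (ker1 B a).subtype (ker1 B a).subtype)
      fun x hx => LinearMap.mem_ker.2 (LinearMap.ext fun k => perp_line C k hx)).flip)
    fun x hx => LinearMap.mem_ker.2 (Submodule.linearMap_qext _ (LinearMap.ext fun k => by
      show B (k : ι → F) (x : ι → F) = 0
      rw [C.symm]; exact perp_line C k hx))).flip

theorem Bq_cls (C : Space Q B) (a : ι → F) (x y : ker1 B a) :
    Bq C a (cls B a x) (cls B a y) = B (x : ι → F) (y : ι → F) := rfl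

theorem Bq_alt (C : Space Q B) (h2 : (2 : F) = 0) (a : ι → F) : (Bq C a).IsAlt := fun w => by
  obtain ⟨x, rfl⟩ := (line B a).mkQ_surjective w
  rw [Bq_cls, C.self, h2, zero_mul]

theorem cls_eq_zero {a : ι → F} {x : ker1 B a} :
    cls B a x = 0 ↔ (x : ι → F) ∈ Submodule.span F {a} := Submodule.Quotient.mk_eq_zero _

theorem cls_eq {a : ι → F} {x y : ker1 B a} :
    cls B a x = cls B a y ↔ ∃ t : F, (x : ι → F) = y + t • a := by
  rw [Submodule.mkQ_apply, Submodule.mkQ_apply, Submodule.Quotient.eq, Submodule.mem_comap,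
    Submodule.subtype_apply, Submodule.coe_sub, Submodule.mem_span_singleton]
  exact ⟨fun ⟨t, ht⟩ => ⟨t, by rw [ht, add_sub_cancel]⟩, fun ⟨t, ht⟩ => ⟨t, by rw [ht]; abel⟩⟩

theorem mem_span_of_perp (C : Space Q B) {a d : ι → F} (h : ∀ k, B a k = 0 → B d k = 0) :
    d ∈ Submodule.span F {a} := by
  by_contra hne
  obtain ⟨y, hy, hdy⟩ := C.exists_perp hne
  rw [h y (hy a (Submodule.mem_span_singleton_self a))] at hdy
  exact zero_ne_one hdy

theorem Bq_nondeg (C : Space Q B) (h2 : (2 : F) = 0) (a : ι → F) : (Bq C a).Nondegenerate := by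
  have hL : (Bq C a).SeparatingLeft := fun w hw => by
    obtain ⟨x, rfl⟩ := (line B a).mkQ_surjective w
    exact cls_eq_zero.2 (mem_span_of_perp C fun k hk => hw (cls B a ⟨k, LinearMap.mem_ker.2 hk⟩))
  exact ⟨hL, fun w hw => hL w fun y => (Bq_alt C h2 a).isRefl _ _ (hw y)⟩

theorem Bq_finrank (C : Space Q B) (h2 : (2 : F) = 0) {a : ι → F} (ha : Q a = 1) :
    finrank F (Wq B a) + 2 = Fintype.card ι := by
  have ha0 : a ≠ 0 := fun h => by rw [h, C.zero] at ha; exact zero_ne_one ha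
  have h1 := LinearMap.finrank_range_add_finrank_ker (B a)
  obtain ⟨u, hu⟩ := C.exists_pair ha0
  have h3 : LinearMap.range (B a) = ⊤ := LinearMap.range_eq_top.2 fun c =>
    ⟨c • u, by rw [map_smul, hu, smul_eq_mul, mul_one]⟩
  rw [h3, finrank_top, Module.finrank_self, finrank_fintype_fun_eq_card] at h1
  have h4 := Submodule.finrank_quotient_add_finrank (line B a)
  have hle : Submodule.span F {a} ≤ ker1 B a := (Submodule.span_singleton_le_iff_mem a _).2
    (LinearMap.mem_ker.2 (by rw [C.self, h2, zero_mul]))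
  have h5 : finrank F (line B a) = 1 := by
    rw [(Submodule.comapSubtypeEquivOfLe hle).finrank_eq, finrank_span_singleton ha0]
  show finrank F (ker1 B a ⧸ line B a) + 2 = Fintype.card ι
  change 1 + finrank F (ker1 B a) = Fintype.card ι at h1
  omega

theorem sqrt_exists (h2 : (2 : F) = 0) (c : F) : ∃ s : F, c = s * s := by
  haveI : CharP F 2 := CharTwo.of_one_ne_zero_of_two_eq_zero one_ne_zero h2
  exact FiniteField.isSquare_of_char_two (ringChar.eq F 2) c

theorem sq_one {t : F} (h2 : (2 : F) = 0) (h : t ^ 2 = 1) : t = 1 := by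
  have : (t - 1) ^ 2 = 0 := by linear_combination h + (1 - t) * h2
  exact sub_eq_zero.1 (eq_zero_of_pow_eq_zero this)

variable (C : Space Q B) (a : ι → F)

include C

/-- The restriction of a stabiliser element to the perpendicular. -/
noncomputable def resEquiv (g : G1 Q B a) : ker1 B a ≃ₗ[F] ker1 B a :=
  have hmap : ∀ (h : G1 Q B a) (x : ι → F), x ∈ ker1 B a → (h : GL ι F).val *ᵥ x ∈ ker1 B a :=
    fun h x hx => LinearMap.mem_ker.2 (by
      have e := C.B_act (root_le_iso C _ h.2.1) a x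
      rw [h.2.2] at e
      rw [e]
      exact LinearMap.mem_ker.1 hx)
  LinearEquiv.ofLinear ((Matrix.mulVecLin (g : GL ι F).val).restrict (hmap g))
    ((Matrix.mulVecLin ((g⁻¹ : G1 Q B a) : GL ι F).val).restrict (hmap g⁻¹))
    (LinearMap.ext fun x => Subtype.ext (act_inv (g : GL ι F) x.1))
    (LinearMap.ext fun x => Subtype.ext (inv_act (g : GL ι F) x.1))

theorem resEquiv_apply (g : G1 Q B a) (x : ker1 B a) :
    ((resEquiv C a g x : ker1 B a) : ι → F) = (g : GL ι F).val *ᵥ (x : ι → F) := rfl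

theorem resEquiv_line (g : G1 Q B a) :
    (line B a).map (resEquiv C a g : ker1 B a →ₗ[F] ker1 B a) = line B a := by
  have key : ∀ (h : G1 Q B a) (y : ι → F), y ∈ Submodule.span F {a} →
      (h : GL ι F).val *ᵥ y = y := fun h y hy => by
    obtain ⟨t, rfl⟩ := Submodule.mem_span_singleton.1 hy
    rw [Matrix.mulVec_smul, h.2.2]
  refine le_antisymm ?_ fun x hx => ⟨x, hx, Subtype.ext ?_⟩
  · rintro _ ⟨x, hx, rfl⟩
    show ((resEquiv C a g x : ker1 B a) : ι → F) ∈ Submodule.span F {a}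
    have hx' : (x : ι → F) ∈ Submodule.span F {a} := hx
    rw [resEquiv_apply, key g _ hx']
    exact hx'
  · have hx' : (x : ι → F) ∈ Submodule.span F {a} := hx
    show ((resEquiv C a g x : ker1 B a) : ι → F) = x
    rw [resEquiv_apply, key g _ hx']

/-- The action of the stabiliser on the symplectic space. -/
noncomputable def toSp : G1 Q B a →* Cfsg.Lib.Linear.Symp.iso (Bq C a) where
  toFun g := ⟨Submodule.Quotient.equiv (line B a) (line B a) (resEquiv C a g) (resEquiv_line C a g),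
    fun u v => by
      obtain ⟨x, rfl⟩ := (line B a).mkQ_surjective u
      obtain ⟨y, rfl⟩ := (line B a).mkQ_surjective v
      show B ((resEquiv C a g x : ker1 B a) : ι → F) ((resEquiv C a g y : ker1 B a) : ι → F) = _
      rw [resEquiv_apply, resEquiv_apply, C.B_act (root_le_iso C _ g.2.1), Bq_cls]⟩
  map_one' := Subtype.ext (LinearEquiv.ext fun u => by
    obtain ⟨x, rfl⟩ := (line B a).mkQ_surjective u
    show cls B a (resEquiv C a 1 x) = cls B a x
    congr 1
    exact Subtype.ext (by rw [resEquiv_apply]; simp))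
  map_mul' g h := Subtype.ext (LinearEquiv.ext fun u => by
    obtain ⟨x, rfl⟩ := (line B a).mkQ_surjective u
    show cls B a (resEquiv C a (g * h) x) = cls B a (resEquiv C a g (resEquiv C a h x))
    congr 1
    exact Subtype.ext (mul_act _ _ _))

theorem toSp_cls (g : G1 Q B a) (x : ker1 B a) :
    (toSp C a g : Wq B a ≃ₗ[F] Wq B a) (cls B a x) = cls B a (resEquiv C a g x) := rfl

variable {a}

/-- A stabiliser element agrees with its class. -/
theorem act_eq_of_cls (h2 : (2 : F) = 0) (ha : Q a = 1) {g : GL ι F} (hg : g ∈ isometryGroup F Q)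
    {x y : ι → F} (hx : B a x = 0) (hQ : Q x = Q y) {t : F} (h : g.val *ᵥ x = y + t • a)
    (hy : B a y = 0) : g.val *ᵥ x = y := by
  have h1 := mem_iso.1 hg x
  rw [h, C.add, C.smul, ha, map_smul, C.symm y a, hy, hQ] at h1
  have ht : t ^ 2 = 0 := by simpa using h1
  rw [h, eq_zero_of_pow_eq_zero ht, zero_smul, add_zero]

theorem toSp_injective (h2 : (2 : F) = 0) (hn : 5 ≤ Fintype.card ι) (ha : Q a = 1) :
    Function.Injective (toSp C a) := by
  refine (injective_iff_map_eq_one _).2 fun g hg => ?_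
  have hiso := root_le_iso C _ g.2.1
  have hfix : ∀ x, B a x = 0 → (g : GL ι F).val *ᵥ x = x := fun x hx => by
    have h1 := toSp_cls C a g ⟨x, LinearMap.mem_ker.2 hx⟩
    rw [hg] at h1
    obtain ⟨t, ht⟩ := cls_eq.1 h1.symm
    exact act_eq_of_cls C h2 ha hiso hx rfl ht hx
  have ha0 : a ≠ 0 := fun h => by rw [h, C.zero] at ha; exact zero_ne_one ha
  obtain ⟨u, hu⟩ := C.exists_pair ha0
  obtain ⟨t, ht⟩ := Submodule.mem_span_singleton.1 (mem_span_of_perp C (a := a)
    (d := (g : GL ι F).val *ᵥ u - u) fun k hk => by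
      rw [map_sub, LinearMap.sub_apply]
      conv_lhs => arg 1; rw [← hfix k hk, C.B_act hiso]
      rw [sub_self])
  have hgu : (g : GL ι F).val *ᵥ u = u + t • a := by rw [ht, add_sub_cancel]
  have h1 := mem_iso.1 hiso u
  rw [hgu, C.add, C.smul, ha, map_smul, C.symm u a, hu, smul_eq_mul] at h1
  have hdec : ∀ x, (g : GL ι F).val *ᵥ x = x + (B a x * t) • a := fun x => by
    have h := hfix (x - B a x • u) (by rw [map_sub, map_smul, hu, smul_eq_mul, mul_one, sub_self])
    rw [Matrix.mulVec_sub, Matrix.mulVec_smul, hgu] at h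
    rw [sub_eq_iff_eq_add.1 h]
    module
  by_cases ht0 : t = 0
  · exact Subtype.ext (gl_ext fun x => by rw [hdec, ht0, mul_zero, zero_smul, add_zero]; simp)
  exfalso
  have ht1 : t = 1 := by
    have : t * (t + 1) = 0 := by linear_combination h1
    have h3 := (mul_eq_zero.1 this).resolve_left ht0
    linear_combination h3 - h2
  have hgr : (g : GL ι F) = rGL Q a := gl_ext fun x => by
    rw [hdec, ht1, rGL_act C (by rw [ha]; exact one_ne_zero), ha]
    match_scalars
    · rfl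
    · linear_combination (B a x) * h2
  obtain ⟨δ, hδ⟩ := exists_dickson C (Or.inr (by omega)) h2
  have hmem := g.2.1
  rw [← omegaGL_eq C hn, Cfsg.Geo.omegaGL] at hmem
  obtain ⟨y, hy, hyg⟩ := hmem
  have hya : y = rI C a (by rw [ha]; exact one_ne_zero) := Subtype.ext (hyg.trans hgr)
  have h5 : δ y = 1 := MonoidHom.mem_ker.1 (Abelianization.commutator_subset_ker δ hy)
  rw [hya, hδ] at h5
  exact absurd h5 (by decide)

theorem toSp_surjective (h2 : (2 : F) = 0) (hn : 5 ≤ Fintype.card ι) (ha : Q a = 1) :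
    Function.Surjective (toSp C a) := by
  have hne : Q a ≠ 0 := by rw [ha]; exact one_ne_zero
  rw [← MonoidHom.range_eq_top, eq_top_iff,
    ← Cfsg.Lib.Linear.Symp.closure_tvG (Bq_nondeg C h2 a) (Bq_alt C h2 a), Subgroup.closure_le]
  rintro _ ⟨w, c, rfl⟩
  obtain ⟨v, rfl⟩ := (line B a).mkQ_surjective w
  obtain ⟨s, hs⟩ := sqrt_exists h2 c
  obtain ⟨μ, hμ⟩ := sqrt_exists h2 (1 + s ^ 2 * Q v)
  have hav : B a (v : ι → F) = 0 := LinearMap.mem_ker.1 v.2
  have haa : B a a = 0 := by rw [C.self, h2, zero_mul]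
  set p := s • (v : ι → F) + μ • a with hp
  have hQp : Q p = 1 := by
    rw [hp, C.smul_add, ha, C.symm (v : ι → F) a, hav]
    linear_combination (-1 : F) * hμ + (s ^ 2 * Q (v : ι → F)) * h2
  have hpne : Q p ≠ 0 := by rw [hQp]; exact one_ne_zero
  have hpa : B p a = 0 := by rw [C.symm, hp, map_add, map_smul, map_smul, hav, haa]; simp
  have hgR : rGL Q p * rGL Q a ∈ Root Q B ⊤ := by
    rw [← omegaGL_eq C hn]
    exact ⟨rI C p hpne * rI C a hne, rI_mul_mem_comm C (Or.inr (by omega)) hpne hne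
      (by rw [hQp, ha, div_one]; exact IsSquare.one), rfl⟩
  have hga : (rGL Q p * rGL Q a).val *ᵥ a = a := by
    rw [mul_act, rGL_fix C hne haa, rGL_fix C hpne hpa]
  refine ⟨⟨_, hgR, hga⟩, Subtype.ext (LinearEquiv.ext fun u => ?_)⟩
  obtain ⟨x, rfl⟩ := (line B a).mkQ_surjective u
  show cls B a (resEquiv C a ⟨_, hgR, hga⟩ x) = cls B a x + (c * Bq C a (cls B a x) (cls B a v)) • cls B a v
  rw [Bq_cls, ← map_smul, ← map_add, cls_eq]
  refine ⟨s * μ * B (x : ι → F) (v : ι → F), ?_⟩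
  have hax : B a (x : ι → F) = 0 := LinearMap.mem_ker.1 x.2
  rw [resEquiv_apply, mul_act, rGL_fix C hne hax, rGL_act C hpne, hQp, inv_one, one_mul, Submodule.coe_add,
    Submodule.coe_smul, hp, map_add, map_smul, map_smul, LinearMap.add_apply, LinearMap.smul_apply,
    LinearMap.smul_apply, hax, C.symm (v : ι → F) x, hs]
  match_scalars
  · rfl
  · linear_combination (-(s * s * B (x : ι → F) (v : ι → F))) * h2
  · linear_combination (-(s * μ * B (x : ι → F) (v : ι → F))) * h2

/-- The stabiliser of a norm one vector is the symplectic group. -/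
noncomputable def spEquiv1 (h2 : (2 : F) = 0) (hn : 5 ≤ Fintype.card ι) (ha : Q a = 1) :
    G1 Q B a ≃* Cfsg.Lib.Linear.Symp.iso (Bq C a) :=
  MulEquiv.ofBijective (toSp C a) ⟨toSp_injective C h2 hn ha, toSp_surjective C h2 hn ha⟩

variable {m : ℕ}

theorem G1_perfect (h2 : (2 : F) = 0) (hn : Fintype.card ι = 2 * m + 2) (hm : 3 ≤ m) (ha : Q a = 1) :
    ⁅G1 Q B a, G1 Q B a⁆ = G1 Q B a := by
  have hd := Bq_finrank C h2 ha
  let r := spEquiv1 C h2 (by omega) ha
  have hp : commutator (G1 Q B a) = ⊤ := by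
    have := congrArg (Subgroup.map r.symm.toMonoidHom) (Cfsg.Lib.SpMult.perfect_iso (Bq_nondeg C h2 a)
      (Bq_alt C h2 a) (m := m) (by omega) (by omega) (fun e => by omega))
    rwa [commutator_def, Subgroup.map_commutator, Subgroup.map_top_of_surjective _ r.symm.surjective,
      ← commutator_def] at this
  have h3 := congrArg (Subgroup.map (G1 Q B a).subtype) hp
  rwa [commutator_def, Subgroup.map_commutator, ← MonoidHom.range_eq_map, Subgroup.range_subtype] at h3

/-- The stabiliser of two perpendicular vectors of norm one is perfect. -/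
theorem G2_perfect (h2 : (2 : F) = 0) (hn : Fintype.card ι = 2 * m + 2) (hm : 3 ≤ m)
    (hq : 4 ≤ m ∨ 3 ≤ Fintype.card F) (ha : Q a = 1) {b : ι → F} (hb : Q b = 1) (hab : B a b = 0)
    (hne : a ≠ b) :
    ⁅G1 Q B a ⊓ G1 Q B b, G1 Q B a ⊓ G1 Q B b⁆ = G1 Q B a ⊓ G1 Q B b := by
  have hd := Bq_finrank C h2 ha
  let r := spEquiv1 C h2 (by omega) ha
  set bb := cls B a ⟨b, LinearMap.mem_ker.2 hab⟩ with hbb
  have hb0 : bb ≠ 0 := fun h => by
    obtain ⟨t, rfl⟩ := Submodule.mem_span_singleton.1 (cls_eq_zero.1 h)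
    rw [C.smul, ha, mul_one] at hb
    exact hne (by rw [sq_one h2 hb, one_smul])
  have hFv := Fv_perfect h2 (Bq_nondeg C h2 a) (Bq_alt C h2 a) (m := m) (by omega) hm hq hb0
  have hiff : ∀ g : G1 Q B a, (g : GL ι F) ∈ G1 Q B b ↔ r g ∈ Fv (Bq C a) bb := fun g => by
    rw [mem_Fv, mem_G1]
    refine ⟨fun h => ?_, fun h => ⟨g.2.1, ?_⟩⟩
    · show cls B a (resEquiv C a g ⟨b, LinearMap.mem_ker.2 hab⟩) = bb
      congr 1
      exact Subtype.ext h.2
    · obtain ⟨t, ht⟩ := cls_eq.1 (show cls B a (resEquiv C a g ⟨b, LinearMap.mem_ker.2 hab⟩) = bb from h)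
      exact act_eq_of_cls C h2 ha (root_le_iso C _ g.2.1) hab rfl ht hab
  have hmap : (Fv (Bq C a) bb).map ((G1 Q B a).subtype.comp r.symm.toMonoidHom) = G1 Q B a ⊓ G1 Q B b := by
    ext g
    constructor
    · rintro ⟨k, hk, rfl⟩
      exact ⟨(r.symm k).2, (hiff (r.symm k)).2 (by rwa [r.apply_symm_apply])⟩
    · rintro ⟨hga, hgb⟩
      refine ⟨r ⟨g, hga⟩, (hiff ⟨g, hga⟩).1 hgb, ?_⟩
      show ((r.symm (r ⟨g, hga⟩)) : GL ι F) = g
      rw [r.symm_apply_apply]
  rw [← hmap, ← Subgroup.map_commutator, hFv]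

/-- The stabiliser of a vector is transitive on perpendicular vectors of norm one. -/
theorem G1_trans (h2 : (2 : F) = 0) (hn : 5 ≤ Fintype.card ι) (ha : Q a = 1) {x y : ι → F}
    (hx : Q x = 1) (hy : Q y = 1) (hax : B a x = 0) (hay : B a y = 0) (X : Submodule F (Wq B a))
    (hxX : cls B a ⟨x, LinearMap.mem_ker.2 hax⟩ ∉ X) (hyX : cls B a ⟨y, LinearMap.mem_ker.2 hay⟩ ∉ X)
    (hX : ∀ z ∈ X, Bq C a z (cls B a ⟨x, LinearMap.mem_ker.2 hax⟩) =
      Bq C a z (cls B a ⟨y, LinearMap.mem_ker.2 hay⟩)) :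
    ∃ g : G1 Q B a, (g : GL ι F).val *ᵥ x = y ∧
      ∀ z ∈ X, (toSp C a g : Wq B a ≃ₗ[F] Wq B a) z = z := by
  obtain ⟨t, ht, htx⟩ := Cfsg.Lib.Linear.Symp.exists_T_map (Bq_nondeg C h2 a) (Bq_alt C h2 a) X hxX hyX hX
  obtain ⟨g, hg⟩ := toSp_surjective C h2 hn ha ⟨t, Cfsg.Lib.Linear.Symp.T_le_iso (Bq_alt C h2 a) X ht⟩
  have hval : (toSp C a g : Wq B a ≃ₗ[F] Wq B a) = t := congrArg Subtype.val hg
  refine ⟨g, ?_, fun z hz => by rw [hval]; exact (Cfsg.Lib.Linear.Symp.T_le_fixer (Bq_alt C h2 a) X ht).2 z hz⟩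
  have h := toSp_cls C a g ⟨x, LinearMap.mem_ker.2 hax⟩
  rw [hval, htx] at h
  obtain ⟨r, hr⟩ := cls_eq.1 h.symm
  exact act_eq_of_cls C h2 ha (root_le_iso C _ g.2.1) hax (hx.trans hy.symm) hr hay

end Cfsg.Lib.OrthMult.Two
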