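import Cfsg.Agent.Lib.OrthMult.Two.Stab
import Cfsg.Agent.Lib.OrthMult.Transport
import Cfsg.Agent.Lib.OrthMult.Step

/-!
# `Ω` has no proper stem extension in characteristic two
-/

set_option autoImplicit false
set_option linter.unusedSectionVars false

namespace Cfsg.Lib.OrthMult.Two

open Module
open Cfsg.Lib.Linear.Orth
open Cfsg.Lib.OrthMult (orth mem_orth mem_orth_span orth_anti finrank_orth Sys glOf glOf_mem mem_ker
  finrank_span_three finrank_span_four)
open scoped Matrix commutatorElement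

universe u

variable {ι : Type} [Fintype ι] [DecidableEq ι] {F : Type u} [Field F] [Fintype F]
  {Q : (ι → F) → F} {B : LinearMap.BilinForm F (ι → F)}

/-- A norm one vector in a perpendicular and outside a subspace. -/
theorem exists_unit (C : Space Q B) (h2 : (2 : F) = 0) {S0 S : Submodule F (ι → F)} (hS : S0 ≤ S)
    (hT : ¬ orth B S0 ≤ S)
    (hq : 4 ≤ Fintype.card F ∨ finrank F S + 2 ≤ finrank F (orth B S0)) :
    ∃ u ∈ orth B S0, u ∉ S ∧ Q u = 1 := by
  classical
  suffices h : ∃ u ∈ orth B S0, u ∉ S ∧ Q u ≠ 0 by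
    obtain ⟨u, hu, huS, hQ⟩ := h
    obtain ⟨s, hs⟩ := sqrt_exists h2 (Q u)⁻¹
    have hs0 : s ≠ 0 := fun h0 => inv_ne_zero hQ (by rw [hs, h0, mul_zero])
    refine ⟨s • u, Submodule.smul_mem _ _ hu, fun h => huS ((Submodule.smul_mem_iff _ hs0).1 h), ?_⟩
    rw [C.smul, sq, ← hs, inv_mul_cancel₀ hQ]
  by_contra hne
  push Not at hne
  obtain ⟨y, hy, hQy⟩ : ∃ y ∈ orth B S0, Q y ≠ 0 := by
    by_contra hts
    push Not at hts
    refine hT fun x hx => hS ?_
    by_contra hx0
    obtain ⟨z, hz, hxz⟩ := C.exists_perp hx0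
    have hz' : z ∈ orth B S0 := mem_orth.2 hz
    have h1 := hts (x + z) (Submodule.add_mem _ hx hz')
    rw [C.add, hts x hx, hts z hz', hxz] at h1
    simp at h1
  have hyS : y ∈ S := by
    by_contra h
    exact hQy (hne y hy h)
  have key : ∀ x ∈ orth B S0, x ∉ S → ∀ t : F, t * B x y + t ^ 2 * Q y = 0 := fun x hx hxS t => by
    have h1 := hne (x + t • y) (Submodule.add_mem _ hx (Submodule.smul_mem _ _ hy))
      (fun h => hxS ((Submodule.add_mem_iff_left _ (S.smul_mem t hyS)).1 h))
    rwa [C.add, hne x hx hxS, C.smul, map_smul, zero_add, smul_eq_mul, add_comm] at h1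
  obtain ⟨x, hx, hxS⟩ := SetLike.not_le_iff_exists.1 hT
  rcases hq with hq | hq
  · obtain ⟨μ, hμ0, hμ⟩ := exists_mu hq
    have e1 := key x hx hxS 1
    have e2 := key x hx hxS μ
    have h3 : μ * (μ - 1) * Q y = 0 := by linear_combination e2 - μ * e1
    rcases mul_eq_zero.1 h3 with h | h
    · rcases mul_eq_zero.1 h with h | h
      · exact hμ0 h
      · exact hμ (by rw [sub_eq_zero.1 h, one_pow])
    · exact hQy h
  · obtain ⟨x', hx', hxS'⟩ : ∃ x' ∈ orth B S0, x' ∉ S ⊔ Submodule.span F {x} := by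
      by_contra! hc
      have h1 := Submodule.finrank_mono (show orth B S0 ≤ S ⊔ Submodule.span F {x} from hc)
      have h3 := Submodule.finrank_add_le_finrank_add_finrank S (Submodule.span F {x})
      have h4 : finrank F (Submodule.span F {x}) ≤ 1 :=
        (finrank_span_le_card ({x} : Set (ι → F))).trans (by simp)
      omega
    have hx'S : x' ∉ S := fun h => hxS' (Submodule.mem_sup_left h)
    have hsum : x + x' ∉ S := fun h => hxS' (by
      rw [show x' = (x + x') - x by abel]
      exact Submodule.sub_mem _ (Submodule.mem_sup_left h)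
        (Submodule.mem_sup_right (Submodule.mem_span_singleton_self x)))
    have e1 := key x hx hxS 1
    have e2 := key x' hx' hx'S 1
    have e3 := key (x + x') (Submodule.add_mem _ hx hx') hsum 1
    rw [map_add, LinearMap.add_apply] at e3
    exact hQy (by linear_combination e1 + e2 - e3)

/-- A vector in a two-dimensional span of unit vectors and outside a subspace containing one of them. -/
theorem not_mem_pair (C : Space Q B) (h2 : (2 : F) = 0) {S : Submodule F (ι → F)} {a w u : ι → F}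
    (ha : Q a = 1) (hw : Q w = 1) (haS : a ∈ S) (hwS : w ∈ S) (hu : u ∉ S) (haw : a ≠ w) :
    a ∉ Submodule.span F {w, u} := fun h => by
  obtain ⟨s, t, hst⟩ := Submodule.mem_span_pair.1 h
  by_cases ht : t = 0
  · rw [ht, zero_smul, add_zero] at hst
    rw [← hst, C.smul, hw, mul_one] at ha
    exact haw (by rw [← hst, sq_one h2 ha, one_smul])
  · exact hu ((Submodule.smul_mem_iff _ ht).1 (by
      rw [show t • u = a - s • w from eq_sub_of_add_eq' hst]
      exact S.sub_mem haS (S.smul_mem _ hwS)))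

theorem not_mem_pair' (C : Space Q B) (h2 : (2 : F) = 0) {S : Submodule F (ι → F)} {a w u : ι → F}
    (ha : Q a = 1) (hw : Q w = 1) (haS : a ∈ S) (hwS : w ∈ S) (hu : u ∉ S) (haw : a ≠ w) :
    a ∉ Submodule.span F {u, w} := by
  rw [Set.pair_comm]; exact not_mem_pair C h2 ha hw haS hwS hu haw

variable {E : Type u} [Group E] (σ : E →* ↥(Root Q B ⊤))

/-- The derived preimage of the stabiliser of a vector. -/
noncomputable def derG (H : Subgroup (GL ι F)) : Subgroup E := ⁅H.comap (glOf σ), H.comap (glOf σ)⁆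

theorem derG_le (H : Subgroup (GL ι F)) : derG σ H ≤ H.comap (glOf σ) :=
  Subgroup.commutator_le.2 fun a ha b hb => by
    rw [commutatorElement_def]
    exact mul_mem (mul_mem (mul_mem ha hb) (inv_mem ha)) (inv_mem hb)

theorem derG_mono {H H' : Subgroup (GL ι F)} (h : H ≤ H') : derG σ H ≤ derG σ H' :=
  Subgroup.commutator_mono (Subgroup.comap_mono h) (Subgroup.comap_mono h)

theorem exists_derG (hs : Function.Surjective σ) {H : Subgroup (GL ι F)} (hle : H ≤ Root Q B ⊤)
    (hp : ⁅H, H⁆ = H) {g : GL ι F} (hg : g ∈ H) : ∃ d ∈ derG σ H, glOf σ d = g := by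
  have hrange : H ≤ (glOf σ).range := fun x hx => by
    obtain ⟨e, he⟩ := hs ⟨x, hle hx⟩
    exact ⟨e, congrArg Subtype.val he⟩
  have : (derG σ H).map (glOf σ) = H := by
    rw [derG, Subgroup.map_commutator, Subgroup.map_comap_eq_self hrange, hp]
  rw [← this] at hg
  exact hg

/-- The derived preimage mapped onto the group. -/
noncomputable def derGHom (H : Subgroup (GL ι F)) : derG σ H →* H :=
  ((glOf σ).comp (derG σ H).subtype).codRestrict _ fun d => derG_le σ H d.2

theorem derGHom_stem (hs : Function.Surjective σ) (hc : σ.ker ≤ Subgroup.center E)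
    {H : Subgroup (GL ι F)} (hle : H ≤ Root Q B ⊤) (hp : ⁅H, H⁆ = H) :
    Cfsg.IsStemExtension (derGHom σ H) := by
  have hρs : Function.Surjective (derGHom σ H) := fun g => by
    obtain ⟨d, hd, hdg⟩ := exists_derG σ hs hle hp g.2
    exact ⟨⟨d, hd⟩, Subtype.ext hdg⟩
  have hρc : (derGHom σ H).ker ≤ Subgroup.center (derG σ H) := fun d hd => Subgroup.mem_center_iff.2
    fun x => Subtype.ext (Subgroup.mem_center_iff.1 (hc (mem_ker σ (congrArg Subtype.val hd))) x.1)
  have hDp : commutator (derG σ H) = ⊤ := by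
    refine Subgroup.map_injective (derG σ H).subtype_injective ?_
    rw [← MonoidHom.range_eq_map, Subgroup.range_subtype, commutator_def, Subgroup.map_commutator,
      ← MonoidHom.range_eq_map, Subgroup.range_subtype]
    refine le_antisymm (Subgroup.commutator_mono (derG_le σ H) (derG_le σ H)) ?_
    rw [derG, Subgroup.commutator_le]
    intro a ha b hb
    obtain ⟨a', ha', ea⟩ := exists_derG σ hs hle hp ha
    obtain ⟨b', hb', eb⟩ := exists_derG σ hs hle hp hb
    have hca : a'⁻¹ * a ∈ Subgroup.center E :=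
      hc (mem_ker σ (by rw [map_mul, map_inv, ea, inv_mul_cancel]))
    have hcb : b'⁻¹ * b ∈ Subgroup.center E :=
      hc (mem_ker σ (by rw [map_mul, map_inv, eb, inv_mul_cancel]))
    have hcomm := Cfsg.Lib.Chev.comm_mul_central (a := a') (b := b') hca hcb
    rw [mul_inv_cancel_left, mul_inv_cancel_left] at hcomm
    rw [hcomm]
    exact Subgroup.commutator_mem_commutator ha' hb'
  exact ⟨hρs, hρc, hDp ▸ le_top⟩

/-- Conjugation moves derived preimages. -/
theorem conj_derG (C : Space Q B) (e : E) (a : ι → F) {d : E} (hd : d ∈ derG σ (G1 Q B a)) :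
    e * d * e⁻¹ ∈ derG σ (G1 Q B ((glOf σ e).val *ᵥ a)) := by
  have hle : ((G1 Q B a).comap (glOf σ)).map (MulAut.conj e).toMonoidHom ≤
      (G1 Q B ((glOf σ e).val *ᵥ a)).comap (glOf σ) := by
    rintro _ ⟨k, hk, rfl⟩
    refine ⟨(σ _).2, ?_⟩
    show (glOf σ (e * k * e⁻¹)).val *ᵥ ((glOf σ e).val *ᵥ a) = (glOf σ e).val *ᵥ a
    rw [map_mul, map_mul, map_inv, mul_act, mul_act, inv_act, hk.2]
  have := Subgroup.mem_map_of_mem (MulAut.conj e).toMonoidHom hd
  rw [derG, Subgroup.map_commutator] at this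
  exact Subgroup.commutator_mono hle hle this

/-- The derived preimage of a vector stabiliser is transitive on perpendicular vectors of norm one. -/
theorem derG_trans (C : Space Q B) (h2 : (2 : F) = 0) {m : ℕ} (hn : Fintype.card ι = 2 * m + 2)
    (hm : 3 ≤ m) (hs : Function.Surjective σ) {w a b : ι → F} (hw : Q w = 1) (ha : Q a = 1)
    (hb : Q b = 1) (hwa : B w a = 0) (hne : w ≠ a) (hwb : B w b = 0) (hne' : w ≠ b) :
    ∃ g ∈ derG σ (G1 Q B w), (glOf σ g).val *ᵥ a = b := by
  have hnz : ∀ (y : ι → F), Q y = 1 → ∀ (hy : B w y = 0), w ≠ y →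
      cls B w ⟨y, LinearMap.mem_ker.2 hy⟩ ∉ (⊥ : Submodule F (Wq B w)) := fun y hy1 hy hyne h => by
    obtain ⟨t, ht⟩ := Submodule.mem_span_singleton.1 (cls_eq_zero.1 ((Submodule.mem_bot F).1 h))
    have ht' : t • w = y := ht
    rw [← ht', C.smul, hw, mul_one] at hy1
    exact hyne (by rw [← ht', sq_one h2 hy1, one_smul])
  obtain ⟨h, hha, -⟩ := G1_trans C h2 (by omega) hw ha hb hwa hwb ⊥ (hnz a ha hwa hne) (hnz b hb hwb hne')
    (fun z hz => by rw [(Submodule.mem_bot F).1 hz, map_zero]; rfl)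
  obtain ⟨d, hd, hdh⟩ := exists_derG σ hs (show G1 Q B w ≤ Root Q B ⊤ from fun g hg => hg.1) (G1_perfect C h2 hn hm hw) h.2
  exact ⟨d, hd, by rw [hdh, hha]⟩

omit σ in
/-- Three vectors have a common perpendicular vector of norm one outside their span. -/
theorem exists_common_unit (C : Space Q B) (h2 : (2 : F) = 0) {m : ℕ} (hn : Fintype.card ι = 2 * m + 2)
    (hm : 3 ≤ m) (a b x : ι → F) :
    ∃ u, Q u = 1 ∧ (B u a = 0 ∧ u ≠ a) ∧ (B u b = 0 ∧ u ≠ b) ∧ (B u x = 0 ∧ u ≠ x) := by
  set S3 := Submodule.span F ({a, b, x} : Set (ι → F)) with hS3def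
  have hdS3 : finrank F S3 ≤ 3 := finrank_span_three _ _ _
  have hT3 := finrank_orth (B := B) S3
  obtain ⟨u, hu, huS, hQu⟩ := exists_unit C h2 (S0 := S3) (S := S3) le_rfl
    (fun hle => by have := Submodule.finrank_mono hle; omega) (Or.inr (by omega))
  have huo := mem_orth_span.1 hu
  exact ⟨u, hQu,
    ⟨by rw [C.symm]; exact huo a (by simp), fun h => huS (by
      rw [h]; exact Submodule.subset_span (by simp))⟩,
    ⟨by rw [C.symm]; exact huo b (by simp), fun h => huS (by
      rw [h]; exact Submodule.subset_span (by simp))⟩,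
    ⟨by rw [C.symm]; exact huo x (by simp), fun h => huS (by
      rw [h]; exact Submodule.subset_span (by simp))⟩⟩

/-- The kernel is trivial when the vector stabilisers lift consistently. -/
theorem stem_trivial_core (C : Space Q B) (h2 : (2 : F) = 0) {m : ℕ} (hn : Fintype.card ι = 2 * m + 2)
    (hm : 3 ≤ m) [Finite E] (hstem : Cfsg.IsStemExtension σ)
    (hinj0 : ∀ a : ι → F, Q a = 1 → ∀ k ∈ derG σ (G1 Q B a), glOf σ k = 1 → k = 1)
    (hmem0 : ∀ w a : ι → F, Q w = 1 → Q a = 1 → B w a = 0 → w ≠ a → ∀ g ∈ derG σ (G1 Q B w),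
      (glOf σ g).val *ᵥ a = a → g ∈ derG σ (G1 Q B a))
    (hexA : ∀ a b w w' : ι → F, Q w = 1 → B w a = 0 → B w b = 0 →
      ∃ u ∈ orth B (Submodule.span F {a, b, w}), u ∉ Submodule.span F {a, b, w, w'} ∧ Q u = 1)
    (hexB : ∀ a b u w' : ι → F, Q a = 1 → Q b = 1 → Q u = 1 → Q w' = 1 → B u a = 0 → B u b = 0 →
      B w' a = 0 → B w' b = 0 → B u w' ≠ 0 →
      ∃ v ∈ orth B (Submodule.span F {a, b, u, w'}), v ∉ Submodule.span F {a, b, u, w'} ∧ Q v = 1) :
    σ.ker = ⊥ := by
  classical
  have hn5 : 5 ≤ Fintype.card ι := by omega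
  have hperfR : commutator ↥(Root Q B ⊤) = ⊤ := by
    refine Subgroup.map_injective (Root Q B ⊤).subtype_injective ?_
    rw [← MonoidHom.range_eq_map, Subgroup.range_subtype, commutator_def, Subgroup.map_commutator,
      ← MonoidHom.range_eq_map, Subgroup.range_subtype]
    refine le_antisymm (Subgroup.commutator_le.2 fun a ha b hb => ?_) (root_le_commutator C (by omega))
    rw [commutatorElement_def]
    exact mul_mem (mul_mem (mul_mem ha hb) (inv_mem ha)) (inv_mem hb)
  have hE := Cfsg.Lib.Chev.stem_perfect hstem hperfR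
  have hs := hstem.1
  have hc := hstem.2.1
  let X := {v : ι → F // Q v = 1}
  letI : MulAction E X :=
    { smul := fun e v => ⟨(glOf σ e).val *ᵥ v.1, by rw [mem_iso.1 (glOf_mem σ C e), v.2]⟩
      one_smul := fun v => Subtype.ext (by
        show (glOf σ 1).val *ᵥ v.1 = v.1
        rw [map_one, Units.val_one, Matrix.one_mulVec])
      mul_smul := fun e e' v => Subtype.ext (by
        show (glOf σ (e * e')).val *ᵥ v.1 = (glOf σ e).val *ᵥ ((glOf σ e').val *ᵥ v.1)
        rw [map_mul, mul_act]) }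
  have hG1 : ∀ a : ι → F, G1 Q B a ≤ Root Q B ⊤ := fun a g hg => hg.1
  have hfix : ∀ (a : X) (d : E), d ∈ derG σ (G1 Q B a.1) → d • a = a := fun a d hd =>
    Subtype.ext (derG_le σ _ hd).2
  have hinj : ∀ (a : X) (k : E), k ∈ derG σ (G1 Q B a.1) → glOf σ k = 1 → k = 1 := fun a =>
    hinj0 a.1 a.2
  have hconj : ∀ (e : E) (a : X) (d : E), d ∈ derG σ (G1 Q B a.1) →
      e * d * e⁻¹ ∈ derG σ (G1 Q B (e • a).1) := fun e a d hd => conj_derG σ C e a.1 hd
  have hmem : ∀ w a : X, B w.1 a.1 = 0 → w ≠ a → ∀ g ∈ derG σ (G1 Q B w.1), g • a = a →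
      g ∈ derG σ (G1 Q B a.1) := fun w a hwa hne g hg hga =>
    hmem0 w.1 a.1 w.2 a.2 hwa (fun h => hne (Subtype.ext h)) g hg (congrArg Subtype.val hga)
  have htrans : ∀ w a b : X, B w.1 a.1 = 0 → w ≠ a → B w.1 b.1 = 0 → w ≠ b →
      ∃ g ∈ derG σ (G1 Q B w.1), g • a = b := by
    intro w a b hwa hne hwb hne'
    obtain ⟨g, hg, hgv⟩ := derG_trans σ C h2 hn hm hs w.2 a.2 b.2 hwa (fun h => hne (Subtype.ext h))
      hwb (fun h => hne' (Subtype.ext h))
    exact ⟨g, hg, Subtype.ext hgv⟩
  have hS : Sys (fun a : X => derG σ (G1 Q B a.1)) (fun w : X => derG σ (G1 Q B w.1))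
      (fun w a : X => B w.1 a.1 = 0 ∧ w ≠ a) (fun e w => e • w) :=
    { fix := hfix
      conjD := hconj
      conjW := hconj
      perpW := fun e w a h => ⟨by
        show B ((glOf σ e).val *ᵥ w.1) ((glOf σ e).val *ᵥ a.1) = 0
        rw [C.B_act (glOf_mem σ C e), h.1], fun h' => h.2 (MulAction.injective e h')⟩
      mem := fun w a g h h3 h4 => hmem w a h.1 h.2 g h3 h4
      trans := fun w a b h h' => htrans w a b h.1 h.2 h'.1 h'.2
      indep := fun w w' a b hwa hwb hwa' hwb' => by
        let P : X → Prop := fun u => (B u.1 a.1 = 0 ∧ u ≠ a) ∧ (B u.1 b.1 = 0 ∧ u ≠ b)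
        let R : X → X → Prop := fun u v => ∀ g ∈ derG σ (G1 Q B u.1), ∀ g' ∈ derG σ (G1 Q B v.1),
          g • a = b → g' • a = b → g'⁻¹ * g ∈ derG σ (G1 Q B a.1)
        have hstep : ∀ u v : X, P u → P v → B u.1 v.1 = 0 → u ≠ v →
            a.1 ∉ Submodule.span F {u.1, v.1} → b.1 ∉ Submodule.span F {u.1, v.1} → R u v := by
          intro u v hu hv huv hne hA hB' g hg g' hg' ega egb
          set Z := Submodule.span F {cls B u.1 ⟨v.1, LinearMap.mem_ker.2 huv⟩} with hZ
          have hnz : ∀ (y : X) (hy : B u.1 y.1 = 0), y.1 ∉ Submodule.span F {u.1, v.1} →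
              cls B u.1 ⟨y.1, LinearMap.mem_ker.2 hy⟩ ∉ Z := fun y hy hys h => by
            obtain ⟨s, hs'⟩ := Submodule.mem_span_singleton.1 h
            rw [← map_smul] at hs'
            obtain ⟨t, ht⟩ := cls_eq.1 hs'.symm
            exact hys (Submodule.mem_span_pair.2 ⟨t, s, by rw [add_comm]; exact ht.symm⟩)
          obtain ⟨h, hha, hhZ⟩ := G1_trans C h2 hn5 u.2 a.2 b.2 hu.1.1 hu.2.1 Z (hnz a hu.1.1 hA)
            (hnz b hu.2.1 hB') (fun z hz => by
              obtain ⟨s, rfl⟩ := Submodule.mem_span_singleton.1 hz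
              rw [map_smul, LinearMap.smul_apply, LinearMap.smul_apply, Bq_cls, Bq_cls]
              show s • B v.1 a.1 = s • B v.1 b.1
              rw [hv.1.1, hv.2.1])
          have hhv : (h : GL ι F).val *ᵥ v.1 = v.1 := by
            have h' := hhZ _ (Submodule.mem_span_singleton_self _)
            rw [toSp_cls] at h'
            obtain ⟨t, ht⟩ := cls_eq.1 h'
            exact act_eq_of_cls C h2 u.2 (root_le_iso C _ h.2.1) huv rfl ht huv
          obtain ⟨d, hd, hdh⟩ := exists_derG σ hs (hG1 u.1) (G1_perfect C h2 hn hm u.2) h.2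
          have hdv : d ∈ derG σ (G1 Q B v.1) := hmem u v huv hne d hd
            (Subtype.ext (by show (glOf σ d).val *ᵥ v.1 = v.1; rw [hdh, hhv]))
          have hda : d • a = b := Subtype.ext (by show (glOf σ d).val *ᵥ a.1 = b.1; rw [hdh, hha])
          have k1 : d⁻¹ * g ∈ derG σ (G1 Q B a.1) := hmem u a hu.1.1 hu.1.2 _
            (mul_mem (inv_mem hd) hg)
            (by rw [mul_smul, ega, inv_smul_eq_iff, hda])
          have k2 : d⁻¹ * g' ∈ derG σ (G1 Q B a.1) := hmem v a hv.1.1 hv.1.2 _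
            (mul_mem (inv_mem hdv) hg')
            (by rw [mul_smul, egb, inv_smul_eq_iff, hda])
          have := mul_mem (inv_mem k2) k1
          convert this using 1
          group
        have hRtr : ∀ u v z : X, P v → R u v → R v z → R u z := by
          intro u v z hv h1 h2' g hg g' hg' ega egb
          obtain ⟨m', hm', hma⟩ := htrans v a b hv.1.1 hv.1.2 hv.2.1 hv.2.2
          have := mul_mem (h2' m' hm' g' hg' hma egb) (h1 g hg m' hm' ega hma)
          convert this using 1
          group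
        have hPw : P w := ⟨hwa, hwb⟩
        have hPw' : P w' := ⟨hwa', hwb'⟩
        set S := Submodule.span F ({a.1, b.1, w.1, w'.1} : Set (ι → F)) with hSdef
        obtain ⟨u0, hu0, hu0S, hQu⟩ := hexA a.1 b.1 w.1 w'.1 w.2 hwa.1 hwb.1
        let u : X := ⟨u0, hQu⟩
        have huo := mem_orth_span.1 hu0
        have haS : a.1 ∈ S := Submodule.subset_span (by simp)
        have hbS : b.1 ∈ S := Submodule.subset_span (by simp)
        have hwS : w.1 ∈ S := Submodule.subset_span (by simp)
        have hw'S : w'.1 ∈ S := Submodule.subset_span (by simp)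
        have hune : ∀ y : X, y.1 ∈ S → u ≠ y := fun y hy h => hu0S (by
          have : u0 = y.1 := congrArg Subtype.val h
          rw [this]; exact hy)
        have hPu : P u := ⟨⟨by rw [C.symm]; exact huo a.1 (by simp), hune a haS⟩,
          ⟨by rw [C.symm]; exact huo b.1 (by simp), hune b hbS⟩⟩
        have hR1 : R w u := hstep w u hPw hPu (huo w.1 (by simp)) (Ne.symm (hune w hwS))
          (not_mem_pair C h2 a.2 w.2 haS hwS hu0S fun h => hwa.2 (Subtype.ext h.symm))
          (not_mem_pair C h2 b.2 w.2 hbS hwS hu0S fun h => hwb.2 (Subtype.ext h.symm))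
        have hR2 : R u w' := by
          by_cases huw : B u0 w'.1 = 0
          · exact hstep u w' hPu hPw' huw (hune w' hw'S)
              (not_mem_pair' C h2 a.2 w'.2 haS hw'S hu0S fun h => hwa'.2 (Subtype.ext h.symm))
              (not_mem_pair' C h2 b.2 w'.2 hbS hw'S hu0S fun h => hwb'.2 (Subtype.ext h.symm))
          set S' := Submodule.span F ({a.1, b.1, u0, w'.1} : Set (ι → F)) with hS'def
          obtain ⟨v0, hv0, hv0S, hQv⟩ := hexB a.1 b.1 u0 w'.1 a.2 b.2 hQu w'.2
            (by rw [C.symm]; exact huo a.1 (by simp)) (by rw [C.symm]; exact huo b.1 (by simp))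
            hwa'.1 hwb'.1 huw
          let v : X := ⟨v0, hQv⟩
          have hvo := mem_orth_span.1 hv0
          have haS' : a.1 ∈ S' := Submodule.subset_span (by simp)
          have hbS' : b.1 ∈ S' := Submodule.subset_span (by simp)
          have huS' : u0 ∈ S' := Submodule.subset_span (by simp)
          have hwS' : w'.1 ∈ S' := Submodule.subset_span (by simp)
          have hvne : ∀ y : X, y.1 ∈ S' → v ≠ y := fun y hy h => hv0S (by
            have : v0 = y.1 := congrArg Subtype.val h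
            rw [this]; exact hy)
          have hPv : P v := ⟨⟨by rw [C.symm]; exact hvo a.1 (by simp), hvne a haS'⟩,
            ⟨by rw [C.symm]; exact hvo b.1 (by simp), hvne b hbS'⟩⟩
          refine hRtr u v w' hPv (hstep u v hPu hPv (hvo u0 (by simp)) (Ne.symm (hvne u huS'))
            (not_mem_pair C h2 a.2 hQu haS' huS' hv0S fun h => hPu.1.2 (Subtype.ext h.symm))
            (not_mem_pair C h2 b.2 hQu hbS' huS' hv0S fun h => hPu.2.2 (Subtype.ext h.symm))) ?_
          exact hstep v w' hPv hPw' (by rw [C.symm]; exact hvo w'.1 (by simp)) (hvne w' hwS')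
            (not_mem_pair' C h2 a.2 w'.2 haS' hwS' hv0S fun h => hwa'.2 (Subtype.ext h.symm))
            (not_mem_pair' C h2 b.2 w'.2 hbS' hwS' hv0S fun h => hwb'.2 (Subtype.ext h.symm))
        obtain ⟨g, hg, hga⟩ := htrans w a b hwa.1 hwa.2 hwb.1 hwb.2
        obtain ⟨g', hg', hga'⟩ := htrans w' a b hwa'.1 hwa'.2 hwb'.1 hwb'.2
        exact ⟨g, hg, g', hg', hga, hga', hRtr w u w' hPu hR1 hR2 g hg g' hg' hga hga'⟩
      triple := fun a b x => by
        obtain ⟨u, hQu, hua, hub, hux⟩ := exists_common_unit C h2 hn hm a.1 b.1 x.1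
        exact ⟨⟨u, hQu⟩, ⟨hua.1, fun h => hua.2 (congrArg Subtype.val h)⟩,
          ⟨hub.1, fun h => hub.2 (congrArg Subtype.val h)⟩,
          ⟨hux.1, fun h => hux.2 (congrArg Subtype.val h)⟩⟩ }
  obtain ⟨x₀, -, -, hx₀⟩ := exists_unit C h2 (S0 := (⊥ : Submodule F (ι → F))) (S := ⊥) le_rfl
    (fun hle => by
      have := Submodule.finrank_mono hle
      have := finrank_orth (B := B) (⊥ : Submodule F (ι → F))
      simp only [finrank_bot] at *
      omega)
    (Or.inr (by
      have := finrank_orth (B := B) (⊥ : Submodule F (ι → F))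
      simp only [finrank_bot] at *
      omega))
  rw [Subgroup.eq_bot_iff_forall]
  intro k hk
  have hk1 : glOf σ k = 1 := congrArg Subtype.val hk
  refine hinj ⟨x₀, hx₀⟩ k (hS.central_mem (⟨x₀, hx₀⟩ : X) hE (fun e he => ?_) (hc hk) (Subtype.ext ?_)) hk1
  · obtain ⟨y, hy, hye⟩ := exists_derG σ hs (hG1 x₀) (G1_perfect C h2 hn hm hx₀)
      (show glOf σ e ∈ G1 Q B x₀ from ⟨(σ e).2, congrArg Subtype.val he⟩)
    refine ⟨e * y⁻¹, hc (mem_ker σ (by rw [map_mul, map_inv, hye, mul_inv_cancel])), ?_⟩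
    rwa [mul_inv_rev, inv_inv, inv_mul_cancel_right]
  · show (glOf σ k).val *ᵥ x₀ = x₀
    rw [hk1, Units.val_one, Matrix.one_mulVec]


/-- The kernel of a stem extension is trivial in characteristic two. -/
theorem stem_trivial_root (C : Space Q B) (h2 : (2 : F) = 0) {m : ℕ} (hn : Fintype.card ι = 2 * m + 2)
    (hm : 3 ≤ m) (hq : 4 ≤ m ∨ 4 ≤ Fintype.card F) [Finite E] (hstem : Cfsg.IsStemExtension σ) :
    σ.ker = ⊥ := by
  classical
  have hs := hstem.1
  have hc := hstem.2.1
  have hq3 : 4 ≤ m ∨ 3 ≤ Fintype.card F := hq.imp_right fun h => by omega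
  have hG1 : ∀ a : ι → F, G1 Q B a ≤ Root Q B ⊤ := fun a g hg => hg.1
  have hinj : ∀ a : ι → F, Q a = 1 → ∀ k ∈ derG σ (G1 Q B a), glOf σ k = 1 → k = 1 := by
    intro a ha k hk hk1
    have hperf := G1_perfect C h2 hn hm ha
    have hstem' := derGHom_stem σ hs hc (hG1 a) hperf
    have hd := Bq_finrank C h2 ha
    let r := spEquiv1 C h2 (by omega) ha
    have hk' : (r.toMonoidHom.comp (derGHom σ (G1 Q B a))).ker = (derGHom σ (G1 Q B a)).ker := by
      ext x; simp [MonoidHom.mem_ker]
    have h0 := Cfsg.Lib.SpMult.stem_trivial m (by omega) (fun e => by omega)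
      (fun e => by rcases hq with h | h <;> omega) _ (Bq C a) (Bq_nondeg C h2 a) (Bq_alt C h2 a)
      (by omega) (derG σ (G1 Q B a)) (r.toMonoidHom.comp (derGHom σ (G1 Q B a)))
      ⟨r.surjective.comp hstem'.1, hk'.le.trans hstem'.2.1, hk'.le.trans hstem'.2.2⟩
    rw [hk', Subgroup.eq_bot_iff_forall] at h0
    exact congrArg Subtype.val (h0 ⟨k, hk⟩ (Subtype.ext hk1))
  refine stem_trivial_core σ C h2 hn hm hstem hinj (fun w a hw ha hwa hne g hg hga => ?_)
    (fun a b w w' _ _ _ => ?_) (fun a b u w' _ _ _ _ _ _ _ _ huw => ?_)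
  · have hperf := G2_perfect C h2 hn hm hq3 hw ha hwa hne
    have hgmem : glOf σ g ∈ G1 Q B w ⊓ G1 Q B a := ⟨derG_le σ _ hg, (σ g).2, hga⟩
    obtain ⟨y, hy, hyg⟩ := exists_derG σ hs (inf_le_left.trans (hG1 w)) hperf hgmem
    have h1 : y⁻¹ * g = 1 := hinj w hw _
      (mul_mem (inv_mem (derG_mono σ inf_le_left hy)) hg) (by rw [map_mul, map_inv, hyg, inv_mul_cancel])
    rw [inv_mul_eq_one.1 h1] at hy
    exact derG_mono σ inf_le_right hy
  · have hS34 : Submodule.span F ({a, b, w} : Set (ι → F)) ≤ Submodule.span F {a, b, w, w'} :=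
      Submodule.span_mono (by intro p hp; rcases hp with rfl | rfl | rfl <;> simp)
    have hdS : finrank F (Submodule.span F ({a, b, w, w'} : Set (ι → F))) ≤ 4 := finrank_span_four _ _ _ _
    have hdS3 : finrank F (Submodule.span F ({a, b, w} : Set (ι → F))) ≤ 3 := finrank_span_three _ _ _
    have hT3 := finrank_orth (B := B) (Submodule.span F ({a, b, w} : Set (ι → F)))
    exact exists_unit C h2 hS34 (fun hle => by have := Submodule.finrank_mono hle; omega)
      (hq.symm.imp id fun h => by omega)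
  · set S' := Submodule.span F ({a, b, u, w'} : Set (ι → F)) with hS'def
    have hdS' : finrank F S' ≤ 4 := finrank_span_four _ _ _ _
    have hT' := finrank_orth (B := B) S'
    refine exists_unit C h2 (S0 := S') (S := S') le_rfl (fun hle => ?_)
      (hq.symm.imp id fun h => by omega)
    have heq := Submodule.eq_of_le_of_finrank_le hle (by omega)
    have hu' : u ∈ orth B S' := heq.symm ▸ Submodule.subset_span (by simp)
    have h' := mem_orth_span.1 hu' w' (by simp)
    exact huw (by rw [C.symm]; exact h')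

end Cfsg.Lib.OrthMult.Two
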